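import Groth.Agent.S3449
import Groth.Agent.S1332
import Groth.Agent.S3388
import Groth.Agent.FibDimLib.TopLocalDim
import Groth.Agent.HilbPolyLib.Snapper
import Groth.Agent.CycC1Lib.Degree
import Groth.Agent.DimFibreLib.Main

/-!
# Morphisms of varieties with irreducible fibres of constant dimension over closed points
-/

set_option autoImplicit false
set_option backward.isDefEq.respectTransparency false
set_option linter.all false

universe u

open CategoryTheory AlgebraicGeometry TopologicalSpace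

namespace FibIrrLib

/-- A space with an embedding has the dimension of its range. -/
theorem dim_eq_of_embedding {α β : Type u} [TopologicalSpace α] [TopologicalSpace β] {e : α → β}
    (he : Topology.IsEmbedding e) {T : Set β} (hT : Set.range e = T) :
    topologicalKrullDim α = topologicalKrullDim ↥T := by
  subst hT
  exact IsHomeomorph.topologicalKrullDim_eq _ he.toHomeomorph.isHomeomorph

theorem irreducibleSpace_of_embedding {α β : Type u} [TopologicalSpace α] [TopologicalSpace β] {e : α → β}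
    (he : Topology.IsEmbedding e) (hi : IsIrreducible (Set.range e)) : IrreducibleSpace α := by
  obtain ⟨b, a, -⟩ := hi.1
  have hp : PreirreducibleSpace α := ⟨by
    rintro U V hU hV ⟨u, -, hu⟩ ⟨v, -, hv⟩
    obtain ⟨U', hU', rfl⟩ := he.isInducing.isOpen_iff.1 hU
    obtain ⟨V', hV', rfl⟩ := he.isInducing.isOpen_iff.1 hV
    obtain ⟨x, ⟨w, rfl⟩, hxU, hxV⟩ := hi.2 U' V' hU' hV' ⟨e u, ⟨u, rfl⟩, hu⟩ ⟨e v, ⟨v, rfl⟩, hv⟩
    exact ⟨w, trivial, hxU, hxV⟩⟩
  exact { toPreirreducibleSpace := hp, toNonempty := ⟨a⟩ }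

/-- Dimension bookkeeping for the restriction of a morphism of varieties to an irreducible closed subset. -/
theorem comp_dims {k : Type u} [Field k] {X Y : Scheme.{u}} (qX : X ⟶ Spec (CommRingCat.of k))
    (qY : Y ⟶ Spec (CommRingCat.of k)) [LocallyOfFiniteType qX] [QuasiCompact qX] [LocallyOfFiniteType qY]
    [QuasiCompact qY] (f : X ⟶ Y) (hf : f ≫ qY = qX) (Z : Set X) (hZc : IsClosed Z) (hZi : IsIrreducible Z) :
    ∃ n : ℕ, topologicalKrullDim ↥Z = topologicalKrullDim ↥(closure (f.base '' Z)) + n ∧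
      (∀ y : Y, (f.base ⁻¹' {y} ∩ Z).Nonempty → (n : WithBot ℕ∞) ≤ topologicalKrullDim ↥(f.base ⁻¹' {y} ∩ Z)) ∧
      ∃ V : Set Y, IsOpen V ∧ (V ∩ closure (f.base '' Z)).Nonempty ∧
        ∀ y ∈ V, y ∈ closure (f.base '' Z) → topologicalKrullDim ↥(f.base ⁻¹' {y} ∩ Z) = n := by
  subst hf
  haveI : IsLocallyNoetherian Y := LocallyOfFiniteType.isLocallyNoetherian qY
  haveI : LocallyOfFiniteType f := locallyOfFiniteType_of_comp f qY
  haveI : QuasiCompact f := QuasiCompact.of_comp f qY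
  let I := Scheme.IdealSheafData.vanishingIdeal (X := X) ⟨Z, hZc⟩
  let ιZ := I.subschemeι
  have hrZ : Set.range ιZ = Z := by
    rw [Scheme.IdealSheafData.range_subschemeι, Scheme.IdealSheafData.coe_support_vanishingIdeal]
    rfl
  let h : I.subscheme ⟶ Y := ιZ ≫ f
  let g := h.toImage
  let j := h.imageι
  haveI : QuasiCompact h := inferInstance
  haveI : LocallyOfFiniteType (g ≫ j) := by rw [Scheme.Hom.toImage_imageι]; infer_instance
  haveI : LocallyOfFiniteType g := locallyOfFiniteType_of_comp g j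
  haveI : QuasiCompact g := inferInstance
  haveI : IsLocallyNoetherian h.image := LocallyOfFiniteType.isLocallyNoetherian j
  have hgj : ∀ z, j (g z) = f (ιZ z) := fun z => by
    rw [← Scheme.Hom.comp_apply, Scheme.Hom.toImage_imageι, Scheme.Hom.comp_apply]
  have hrW : Set.range j = closure (f.base '' Z) := by
    change Set.range h.ker.subschemeι = _
    rw [Scheme.IdealSheafData.range_subschemeι, Scheme.Hom.support_ker, ← hrZ, ← Set.range_comp]
    congr 1
  haveI : IrreducibleSpace ↥I.subscheme := irreducibleSpace_of_embedding ιZ.isEmbedding (by rw [hrZ]; exact hZi)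
  haveI : IrreducibleSpace ↥h.image := irreducibleSpace_of_embedding j.isEmbedding (by
    rw [hrW]; exact (hZi.image _ f.continuous.continuousOn).closure)
  have hfib : ∀ w : h.image, topologicalKrullDim ↥(g.fiber w) = topologicalKrullDim ↥(f.base ⁻¹' {j w} ∩ Z) := by
    intro w
    rw [IsHomeomorph.topologicalKrullDim_eq _ (g.fiberHomeo w).isHomeomorph]
    refine dim_eq_of_embedding (e := fun z : ↥(g ⁻¹' {w}) => ιZ z.1) (ιZ.isEmbedding.comp .subtypeVal) ?_
    ext x
    constructor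
    · rintro ⟨⟨z, hz⟩, rfl⟩
      exact ⟨(hgj z).symm.trans (congrArg j hz), hrZ ▸ Set.mem_range_self z⟩
    · rintro ⟨hx, hxZ⟩
      rw [← hrZ] at hxZ
      obtain ⟨z, rfl⟩ := hxZ
      exact ⟨⟨z, j.isEmbedding.injective ((hgj z).trans hx)⟩, rfl⟩
  obtain ⟨n, hn⟩ := DimFibreLib.exists_generic_fibre_dim g g.denseRange
  refine ⟨n, ?_, fun y hy => ?_, ?_⟩
  · have h3 := Groth.Agent.S3449.result (S := Spec (CommRingCat.of k)) (CycC1Lib.isSetup_field (k := k)).2.1
      (fun S' _ s hs _ => by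
        have : {t : ↥(Spec (CommRingCat.of k)) | t ∈ S' ∧ t ⤳ s} = S' := by
          ext t
          exact ⟨fun h => h.1, fun h => ⟨h, by rw [Subsingleton.elim t s]⟩⟩
        rw [this])
      (ιZ ≫ f ≫ qY) (j ≫ qY) g (by rw [Scheme.Hom.toImage_imageι_assoc, Category.assoc])
    rw [hn, dim_eq_of_embedding ιZ.isEmbedding hrZ, dim_eq_of_embedding j.isEmbedding hrW] at h3
    exact h3
  · obtain ⟨x, hx, hxZ⟩ := hy
    rw [← hrZ] at hxZ
    obtain ⟨z, rfl⟩ := hxZ
    have h4 := (hn.symm.le.trans (Groth.Agent.S3388.result g z)).trans (FibDimLib.localDim_le (g.asFiber z))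
    rw [hfib, hgj, show f (ιZ z) = y from hx] at h4
    exact h4
  · obtain ⟨V', ⟨w, hw⟩, hV'⟩ := Groth.Agent.S1332.result g n hn
    obtain ⟨V, hV, hVV⟩ := j.isEmbedding.isInducing.isOpen_iff.1 V'.2
    refine ⟨V, hV, ⟨j w, (Set.ext_iff.1 hVV w).2 hw, hrW ▸ Set.mem_range_self w⟩, fun y hyV hyW => ?_⟩
    rw [← hrW] at hyW
    obtain ⟨w', rfl⟩ := hyW
    rw [← hfib]
    exact hV' w' ((Set.ext_iff.1 hVV w').1 hyV)

/-- If the fibres over closed points are irreducible of dimension `d`, an irreducible component of the source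
consists of whole closed fibres and has dimension `d` plus the dimension of its image closure. -/
theorem comp_whole {k : Type u} [Field k] {X Y : Scheme.{u}} (qX : X ⟶ Spec (CommRingCat.of k))
    (qY : Y ⟶ Spec (CommRingCat.of k)) [LocallyOfFiniteType qX] [QuasiCompact qX] [LocallyOfFiniteType qY]
    [QuasiCompact qY] (f : X ⟶ Y) (hf : f ≫ qY = qX) (d : ℕ)
    (hirr : ∀ y : ↥Y, IsClosed ({y} : Set ↥Y) → IsIrreducible (f.base ⁻¹' {y}))
    (hdim : ∀ y : ↥Y, IsClosed ({y} : Set ↥Y) → topologicalKrullDim ↥(f.base ⁻¹' {y}) = d)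
    (Z : Set X) (hZ : Z ∈ irreducibleComponents ↥X) :
    (∀ y : ↥Y, IsClosed ({y} : Set ↥Y) → (f.base ⁻¹' {y} ∩ Z).Nonempty → f.base ⁻¹' {y} ⊆ Z) ∧
      topologicalKrullDim ↥Z = d + topologicalKrullDim ↥(closure (f.base '' Z)) := by
  have hZc := isClosed_of_mem_irreducibleComponents Z hZ
  obtain ⟨n, hn1, hn2, V, hV, ⟨w, hwV, hwW⟩, hn3⟩ := comp_dims qX qY f hf Z hZc hZ.1
  haveI : IsLocallyNoetherian X := LocallyOfFiniteType.isLocallyNoetherian qX
  haveI : CompactSpace X := QuasiCompact.compactSpace_of_compactSpace qX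
  haveI : AlgebraicGeometry.IsNoetherian X := {}
  haveI : JacobsonSpace X := LocallyOfFiniteType.jacobsonSpace qX
  haveI : JacobsonSpace Y := LocallyOfFiniteType.jacobsonSpace qY
  haveI : LocallyOfFiniteType f := by subst hf; exact locallyOfFiniteType_of_comp f qY
  obtain ⟨o, ho, hone, hoZ⟩ := NoetherianSpace.exists_isOpen_nonempty_subset_irreducibleComponent _ hZ
  obtain ⟨a, ha⟩ := hone
  obtain ⟨b, hbV, hb⟩ : ((f.base ⁻¹' V) ∩ Z).Nonempty := by
    obtain ⟨_, hcV, c, hcZ, rfl⟩ := mem_closure_iff.1 hwW V hV hwV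
    exact ⟨c, hcV, hcZ⟩
  have hO : IsOpen (o ∩ f.base ⁻¹' V) := ho.inter (hV.preimage f.continuous)
  have hOne : (o ∩ f.base ⁻¹' V).Nonempty := by
    obtain ⟨c, -, hc⟩ := hZ.1.2 o (f.base ⁻¹' V) ho (hV.preimage f.continuous) ⟨a, hoZ ha, ha⟩ ⟨b, hb, hbV⟩
    exact ⟨c, hc⟩
  obtain ⟨x, ⟨hxo, hxV⟩, hxc⟩ := nonempty_inter_closedPoints hOne hO.isLocallyClosed
  have hyc : IsClosed ({f.base x} : Set Y) := f.closePoints_subset_preimage_closedPoints hxc
  have hsub : f.base ⁻¹' {f.base x} ⊆ Z := by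
    intro z hz
    have hz' : z ∈ closure (f.base ⁻¹' {f.base x} ∩ o) :=
      subset_closure_inter_of_isPreirreducible_of_isOpen (hirr _ hyc).2 ho ⟨x, rfl, hxo⟩ hz
    exact hZc.closure_subset_iff.2 (Set.inter_subset_right.trans hoZ) hz'
  have hdn : n = d := by
    have h1 := hn3 _ hxV (subset_closure ⟨x, hoZ hxo, rfl⟩)
    rw [Set.inter_eq_left.2 hsub, hdim _ hyc] at h1
    exact_mod_cast h1.symm
  subst hdn
  refine ⟨fun y hy hne => ?_, by rw [hn1, add_comm]⟩
  by_contra hns
  have hirr' := hirr y hy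
  have hcl : IsClosed (f.base ⁻¹' {y}) := hy.preimage f.continuous
  obtain ⟨η, hη⟩ := QuasiSober.sober hirr' hcl
  have hηZ : η ∉ Z := fun h => hns (hη.def ▸ hZc.closure_subset_iff.2 (Set.singleton_subset_iff.2 h))
  have hlt := HilbPolyLib.dim_lt_of_notMem (hcl.inter hZc) (η := η)
    (Set.inter_subset_left.trans hη.def.ge) (fun h => hηZ h.2) hη.def.le (d := n) (by
      rw [hdim y hy]; exact_mod_cast Nat.lt_succ_self n)
  exact absurd (hn2 y hne) (not_le.2 hlt)

end FibIrrLib

namespace FibIrrLib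

/-- Exactly one component of the source dominates an irreducible target. -/
theorem existsUnique_dominant {k : Type u} [Field k] {X Y : Scheme.{u}} (qX : X ⟶ Spec (CommRingCat.of k))
    (qY : Y ⟶ Spec (CommRingCat.of k)) [LocallyOfFiniteType qX] [QuasiCompact qX] [LocallyOfFiniteType qY]
    [QuasiCompact qY] (f : X ⟶ Y) (hf : f ≫ qY = qX) [IrreducibleSpace ↥Y] (d : ℕ)
    (hirr : ∀ y : ↥Y, IsClosed ({y} : Set ↥Y) → IsIrreducible (f.base ⁻¹' {y}))
    (hdim : ∀ y : ↥Y, IsClosed ({y} : Set ↥Y) → topologicalKrullDim ↥(f.base ⁻¹' {y}) = d) :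
    ∃! Z : Set ↥X, Z ∈ irreducibleComponents ↥X ∧ Dense (f.base '' Z) := by
  classical
  haveI : IsLocallyNoetherian X := LocallyOfFiniteType.isLocallyNoetherian qX
  haveI : CompactSpace X := QuasiCompact.compactSpace_of_compactSpace qX
  haveI : AlgebraicGeometry.IsNoetherian X := {}
  haveI : JacobsonSpace X := LocallyOfFiniteType.jacobsonSpace qX
  haveI : JacobsonSpace Y := LocallyOfFiniteType.jacobsonSpace qY
  haveI : LocallyOfFiniteType f := by subst hf; exact locallyOfFiniteType_of_comp f qY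
  have hfin : (irreducibleComponents ↥X).Finite := NoetherianSpace.finite_irreducibleComponents
  have hcov : (Set.univ : Set Y) ⊆ ⋃₀ ((fun Z => closure (f.base '' Z)) '' irreducibleComponents ↥X) := by
    have hc : IsClosed (⋃₀ ((fun Z => closure (f.base '' Z)) '' irreducibleComponents ↥X)) := by
      rw [Set.sUnion_image]
      exact hfin.isClosed_biUnion fun Z _ => isClosed_closure
    rw [← closure_closedPoints (X := Y)]
    refine hc.closure_subset_iff.2 fun y hy => ?_
    obtain ⟨x, hx⟩ := (hirr y hy).1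
    exact ⟨_, ⟨irreducibleComponent x, irreducibleComponent_mem_irreducibleComponents x, rfl⟩,
      subset_closure ⟨x, mem_irreducibleComponent, hx⟩⟩
  obtain ⟨_, hT, hsub⟩ := isIrreducible_iff_sUnion_isClosed.1 (IrreducibleSpace.isIrreducible_univ Y)
    (hfin.image fun Z => closure (f.base '' Z)).toFinset (fun z hz => by
      obtain ⟨Z, -, rfl⟩ := (hfin.image _).mem_toFinset.1 hz
      exact isClosed_closure) (by rw [Set.Finite.coe_toFinset]; exact hcov)
  obtain ⟨Z₀, hZ₀, rfl⟩ := (hfin.image _).mem_toFinset.1 hT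
  refine ⟨Z₀, ⟨hZ₀, dense_iff_closure_eq.2 (Set.univ_subset_iff.1 hsub)⟩, fun Z ⟨hZ, hZd⟩ => ?_⟩
  have hd₀ : closure (f.base '' Z₀) = Set.univ := Set.univ_subset_iff.1 hsub
  obtain ⟨n, -, -, V, hV, ⟨w, hwV, -⟩, hn3⟩ :=
    comp_dims qX qY f hf Z₀ (isClosed_of_mem_irreducibleComponents _ hZ₀) hZ₀.1
  obtain ⟨o, ho, hone, hoZ⟩ := NoetherianSpace.exists_isOpen_nonempty_subset_irreducibleComponent _ hZ
  obtain ⟨η, hη⟩ := QuasiSober.sober hZ.1 (isClosed_of_mem_irreducibleComponents _ hZ)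
  obtain ⟨_, hcV, c, hcZ, rfl⟩ := mem_closure_iff.1 (hZd w) V hV hwV
  have hηo : η ∈ o := by
    obtain ⟨a, ha⟩ := hone
    exact (hη.specializes (hoZ ha)).mem_open ho ha
  have hηV : η ∈ f.base ⁻¹' V := (hη.specializes hcZ).mem_open (hV.preimage f.continuous) hcV
  have hO : IsOpen (o ∩ f.base ⁻¹' V) := ho.inter (hV.preimage f.continuous)
  have hηcl : η ∈ closure ((o ∩ f.base ⁻¹' V) ∩ closedPoints X) := by
    rw [JacobsonSpace.closure_inter_closedPoints_eq_closure hO.isLocallyClosed]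
    exact subset_closure ⟨hηo, hηV⟩
  have hηZ₀ : η ∈ Z₀ := by
    refine (isClosed_of_mem_irreducibleComponents _ hZ₀).closure_subset_iff.2 ?_ hηcl
    rintro x ⟨⟨hxo, hxV⟩, hxc⟩
    have hyc : IsClosed ({f.base x} : Set Y) := f.closePoints_subset_preimage_closedPoints hxc
    have hne : (f.base ⁻¹' {f.base x} ∩ Z₀).Nonempty := by
      by_contra he
      have h1 := hn3 _ hxV (hd₀ ▸ Set.mem_univ _)
      haveI : IsEmpty ↥(f.base ⁻¹' {f.base x} ∩ Z₀) := Set.isEmpty_coe_sort.2 (Set.not_nonempty_iff_eq_empty.1 he)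
      haveI : IsEmpty (IrreducibleCloseds ↥(f.base ⁻¹' {f.base x} ∩ Z₀)) := ⟨fun T => isEmptyElim T.isIrreducible.nonempty.some⟩
      rw [topologicalKrullDim, Order.krullDim_eq_bot] at h1
      exact absurd h1.symm (by simp)
    exact (comp_whole qX qY f hf d hirr hdim Z₀ hZ₀).1 _ hyc hne rfl
  have hle : Z ⊆ Z₀ :=
    hη.def.ge.trans ((isClosed_of_mem_irreducibleComponents _ hZ₀).closure_subset_iff.2 (Set.singleton_subset_iff.2 hηZ₀))
  exact subset_antisymm hle (hZ.2 hZ₀.1 hle)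

/-- A variety over a field has finite dimension. -/
theorem exists_dim_eq {k : Type u} [Field k] {Y : Scheme.{u}} (qY : Y ⟶ Spec (CommRingCat.of k))
    [LocallyOfFiniteType qY] [QuasiCompact qY] [IrreducibleSpace ↥Y] :
    ∃ e : ℕ, topologicalKrullDim Y = e := by
  obtain ⟨e, he⟩ := DimFibreLib.exists_generic_fibre_dim qY (Function.Surjective.denseRange (fun s =>
    ⟨genericPoint Y, Subsingleton.elim _ _⟩))
  refine ⟨e, ?_⟩
  rw [← he, IsHomeomorph.topologicalKrullDim_eq _ (qY.fiberHomeo _).isHomeomorph]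
  exact (dim_eq_of_embedding (Topology.IsEmbedding.id (X := Y))
    (T := qY.base ⁻¹' {genericPoint ↥(Spec (CommRingCat.of k))}) (by ext a; simp [Subsingleton.elim (qY a) (genericPoint _)])).symm ▸ rfl

end FibIrrLib
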